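/-
Helper library (helper22): Peterfalvi section 8, first glue layer.  The sets `A₁(M) ⊆ A(M) ⊆ A₀(M)`, the
subgroups `R(a)`, and the Dade hypothesis for them, derived from the statement of row S1391
(Bender–Glauberman, Theorem II) and row S1355.
-/
import Cfsg.Agent.Lib.Helper26.BGTypesB
import Cfsg.Prelude.Def_OddOrderChar

set_option autoImplicit false
set_option linter.unusedSectionVars false
set_option linter.unusedVariables false
set_option linter.style.haveILetI false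

namespace Cfsg.Agent.Lib.Helper22.PF8

open Subgroup Cfsg
open Cfsg.Agent.Lib
open Cfsg.Agent.Lib.Helper24 Cfsg.Agent.Lib.Helper34 Cfsg.Agent.Lib.Helper31.BG11
open Cfsg.Agent.Lib.Helper34.BGRows Cfsg.Agent.Lib.Helper26.BGTypes

universe u

variable {G : Type u} [Group G] [Finite G] {M : Subgroup G}

/-- The conclusion of row S1391 for `M` and `X`. -/
def C1391 (M : Subgroup G) (X : Set G) : Prop :=
  (∀ x ∈ X, ∀ g : G, g * x * g⁻¹ ∈ X → ∃ m ∈ M, m * x * m⁻¹ = g * x * g⁻¹) ∧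
    (∀ x ∈ X, ¬ Subgroup.centralizer ({x} : Set G) ≤ M → x ∈ Cfsg.typeA1 M ∧
      ∃! L : Subgroup G, IsCoatom L ∧ Subgroup.centralizer ({x} : Set G) ≤ L) ∧
    ∀ x ∈ X, ¬ Subgroup.centralizer ({x} : Set G) ≤ M → ∀ L : Subgroup G, IsCoatom L →
      Subgroup.centralizer ({x} : Set G) ≤ L →
      Cfsg.IsComplIn (Cfsg.fittingHallOf L) (M ⊓ L) L ∧
      Subgroup.centralizer ({x} : Set G) ≤ Subgroup.normalizer
        ((Cfsg.fittingHallOf L ⊓ Subgroup.centralizer ({x} : Set G) : Subgroup G) : Set G) ∧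
      Cfsg.IsComplIn (Cfsg.fittingHallOf L ⊓ Subgroup.centralizer ({x} : Set G))
        (M ⊓ Subgroup.centralizer ({x} : Set G)) (Subgroup.centralizer ({x} : Set G)) ∧
      (∀ y ∈ X, (Nat.card (Cfsg.fittingHallOf L)).Coprime
        (Nat.card ↥(M ⊓ Subgroup.centralizer ({y} : Set G)))) ∧
      (x ∈ Cfsg.typeA L ∧ x ∉ Cfsg.typeA1 L) ∧
      (Cfsg.IsOfTypeI L ∨ Cfsg.IsOfTypeII L) ∧
      (Cfsg.IsOfTypeII L → ∃ E : Subgroup ↥M, Cfsg.IsFrobeniusComplement E ∧
        Cfsg.frobeniusKernel E = ((Cfsg.fittingHall ↥M : Subgroup ↥M) : Set ↥M))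

/-- The statement of row S1391. -/
def H1391 (G : Type u) [Group G] [Finite G] : Prop :=
  ∀ M : Subgroup G, IsCoatom M → ∀ X : Set G, (X = Cfsg.typeA M ∨ X = Cfsg.typeA0 M) → C1391 M X

/-! ### Frobenius type and type P exclude each other -/

theorem typeP_fh_le {W₁ U W₂ : Subgroup G} (hP : IsTypePWith M W₁ U W₂) :
    fittingHallOf M ≤ ⁅M, M⁆ := hP.U_compl.1

theorem typeF_typeP_false {W₁ U W₂ : Subgroup G} (hF : IsOfTypeF M)
    (hP : IsTypePWith M W₁ U W₂) : False := by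
  obtain ⟨-, -, -, -, UF, -, hcompl, -, U₀, hU₀, hexp, hfree⟩ := hF
  have h1 : Nat.card W₁ ≠ 1 := fun h => hP.W₁_ne ((Subgroup.card_eq_one).1 h)
  obtain ⟨p, hp, hd⟩ := Nat.exists_prime_and_dvd h1
  haveI : Fact p.Prime := ⟨hp⟩
  have hW₁M : W₁ ≤ M := hP.W₁_compl.2.1
  have hcop : (Nat.card W₁).Coprime (Nat.card (⁅M, M⁆ : Subgroup G)) := by
    have := hP.W₁_hall
    rwa [Helper23.complIn_relIndex_right hP.W₁_compl] at this
  have hpH : ¬ p ∣ Nat.card (fittingHall M) := by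
    intro h
    rw [← Helper23.card_fittingHallOf] at h
    have h2 := Nat.dvd_gcd hd (h.trans (Subgroup.card_dvd_of_le (typeP_fh_le hP)))
    rw [hcop] at h2
    exact hp.one_lt.ne' (Nat.dvd_one.1 h2)
  have hpUF : p ∣ Nat.card UF := by
    have h2 := hcompl.card_mul_card
    have h3 : p ∣ Nat.card (fittingHall M) * Nat.card UF := by
      rw [h2]; exact hd.trans (Subgroup.card_dvd_of_le hW₁M)
    exact (hp.dvd_mul.1 h3).resolve_left hpH
  obtain ⟨v, hv⟩ := exists_prime_orderOf_dvd_card' (G := UF) p hpUF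
  have hpe : p ∣ Monoid.exponent U₀ := by
    rw [hexp, ← hv]; exact Monoid.order_dvd_exponent v
  have hpU₀ : p ∣ Nat.card U₀ := hpe.trans Group.exponent_dvd_nat_card
  obtain ⟨u, hu⟩ := exists_prime_orderOf_dvd_card' (G := U₀) p hpU₀
  have huo : orderOf ((u : M) : G) = p := by
    rw [Subgroup.orderOf_coe, Subgroup.orderOf_coe, hu]
  obtain ⟨S, hS, -⟩ := Cfsg.Agent.Lib.Helper34.exists_isSylowIn_ge
    (bot_le : (⊥ : Subgroup G) ≤ W₁) (IsPGroup.of_bot (p := p))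
  have hSM := isSylowIn_of_hall hp hW₁M hP.W₁_hall hd hS
  obtain ⟨n, hn, hle⟩ := hSM.exists_conj_le (R := zpowers ((u : M) : G))
    (zpowers_le.2 (u : M).2) (isPGroup_zpowers_of_orderOf hp huo)
  have hk : n * ((u : M) : G) * n⁻¹ ∈ W₁ := hS.1 (hle (conj_mem_map_conj (mem_zpowers _)))
  obtain ⟨y, hy, hy1⟩ := exists_ne_one_of_ne_bot hP.selfNormalizing.2.1
  have hcomm : n * ((u : M) : G) * n⁻¹ * y = y * (n * ((u : M) : G) * n⁻¹) :=
    hP.selfNormalizing.2.2.2.1 _ hk y hy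
  have hyH : n⁻¹ * y * n ∈ fittingHallOf M := by
    have := conj_mem_of_le_normalizer (fh_norm M) (M.inv_mem hn) (hP.W₂_le hy).1
    rwa [inv_inv] at this
  have hx : (⟨n⁻¹ * y * n, fh_le M hyH⟩ : M) ∈ fittingHall M := by
    rw [← fh_subgroupOf, mem_subgroupOf]; exact hyH
  have hu1 : (u : M) ≠ 1 := by
    intro h
    rw [h] at huo
    simp at huo
    exact hp.one_lt.ne huo
  have h5 := hfree (u : M) u.2 hu1 _ hx (by
    apply Subtype.ext
    show ((u : M) : G) * (n⁻¹ * y * n) = n⁻¹ * y * n * ((u : M) : G)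
    have e1 : ((u : M) : G) * (n⁻¹ * y * n) = n⁻¹ * (n * ((u : M) : G) * n⁻¹ * y) * n := by group
    rw [e1, hcomm]
    group)
  have h6 : n⁻¹ * y * n = 1 := congrArg Subtype.val h5
  apply hy1
  have e2 : y = n * (n⁻¹ * y * n) * n⁻¹ := by group
  rw [e2, h6]
  group

theorem typeI_not_III_IV (hI : IsOfTypeI M) : ¬ (IsOfTypeIII M ∨ IsOfTypeIV M) := by
  rintro (⟨W₁, U, W₂, hP, -⟩ | ⟨W₁, U, W₂, hP, -⟩)
  · exact typeF_typeP_false hI.1 hP
  · exact typeF_typeP_false hI.1 hP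

/-! ### `R(a)` -/

omit [Finite G] in
theorem supportR_of_le {x : G} (h : centralizer ({x} : Set G) ≤ M) : supportR M x = ⊥ := by
  unfold supportR
  rw [dif_neg]
  exact fun h' => h'.1 h

omit [Finite G] in
theorem supportR_eq {x : G} {L : Subgroup G} (h : ¬ centralizer ({x} : Set G) ≤ M)
    (hu : ∃! L : Subgroup G, IsCoatom L ∧ centralizer ({x} : Set G) ≤ L) (hL : IsCoatom L)
    (hxL : centralizer ({x} : Set G) ≤ L) :
    supportR M x = fittingHallOf L ⊓ centralizer ({x} : Set G) := by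
  unfold supportR
  rw [dif_pos ⟨h, hu⟩]
  have h1 := Classical.choose_spec hu.exists
  rw [hu.unique h1 ⟨hL, hxL⟩]

/-! ### The sets `A₁(M)`, `A(M)`, `A₀(M)` -/

theorem typeCore_le (M : Subgroup G) : typeCore M ≤ M := by
  unfold typeCore
  split_ifs
  · exact Subgroup.commutator_le_self M
  · exact fh_le M

theorem typeCore_norm (M : Subgroup G) : M ≤ normalizer (typeCore M : Set G) := by
  unfold typeCore
  split_ifs
  · exact BG13.le_normalizer_commutator_self M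
  · exact fh_norm M

omit [Finite G] in
theorem conj_ne_one {m a : G} (h : a ≠ 1) : m * a * m⁻¹ ≠ 1 := by
  intro h1
  apply h
  have := congrArg (fun z => m⁻¹ * z * m) h1
  simpa [mul_assoc] using this

omit [Finite G] in
theorem conj_comm {m a x : G} (h : a * x = x * a) :
    m * a * m⁻¹ * (m * x * m⁻¹) = m * x * m⁻¹ * (m * a * m⁻¹) := by
  calc m * a * m⁻¹ * (m * x * m⁻¹) = m * (a * x) * m⁻¹ := by group
    _ = m * (x * a) * m⁻¹ := by rw [h]
    _ = m * x * m⁻¹ * (m * a * m⁻¹) := by group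

omit [Finite G] in
theorem one_not_mem_A1 (M : Subgroup G) : (1 : G) ∉ typeA1 M := fun h => h.2 rfl

theorem A1_subset (M : Subgroup G) : typeA1 M ⊆ (M : Set G) := fun _ h => typeCore_le M h.1

theorem A1_conj {m a : G} (hm : m ∈ M) (ha : a ∈ typeA1 M) : m * a * m⁻¹ ∈ typeA1 M :=
  ⟨conj_mem_of_le_normalizer (typeCore_norm M) hm ha.1, conj_ne_one ha.2⟩

omit [Finite G] in
theorem mem_A_of_typeI (hI : IsOfTypeI M) {a : G} :
    a ∈ typeA M ↔ a ∈ M ∧ a ≠ 1 ∧ ∃ x ∈ fittingHallOf M, x ≠ 1 ∧ a * x = x * a := by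
  unfold typeA
  rw [if_pos hI]
  rfl

omit [Finite G] in
theorem mem_A_of_not_typeI (hI : ¬ IsOfTypeI M) {a : G} :
    a ∈ typeA M ↔ a ∈ ⁅M, M⁆ ∧ a ≠ 1 ∧ ∃ x ∈ typeCore M, x ≠ 1 ∧ a * x = x * a := by
  unfold typeA
  rw [if_neg hI]
  rfl

omit [Finite G] in
theorem one_not_mem_A (M : Subgroup G) : (1 : G) ∉ typeA M := by
  by_cases hI : IsOfTypeI M
  · rw [mem_A_of_typeI hI]
    exact fun h => h.2.1 rfl
  · rw [mem_A_of_not_typeI hI]
    exact fun h => h.2.1 rfl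

omit [Finite G] in
theorem A_subset (M : Subgroup G) : typeA M ⊆ (M : Set G) := by
  intro a ha
  by_cases hI : IsOfTypeI M
  · exact ((mem_A_of_typeI hI).1 ha).1
  · exact Subgroup.commutator_le_self M ((mem_A_of_not_typeI hI).1 ha).1

theorem A_conj {m a : G} (hm : m ∈ M) (ha : a ∈ typeA M) : m * a * m⁻¹ ∈ typeA M := by
  by_cases hI : IsOfTypeI M
  · rw [mem_A_of_typeI hI] at ha ⊢
    obtain ⟨h1, h2, x, hx, hx1, hc⟩ := ha
    exact ⟨mul_mem (mul_mem hm h1) (inv_mem hm), conj_ne_one h2, m * x * m⁻¹,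
      conj_mem_of_le_normalizer (fh_norm M) hm hx, conj_ne_one hx1, conj_comm hc⟩
  · rw [mem_A_of_not_typeI hI] at ha ⊢
    obtain ⟨h1, h2, x, hx, hx1, hc⟩ := ha
    exact ⟨conj_mem_of_le_normalizer (BG13.le_normalizer_commutator_self M) hm h1, conj_ne_one h2,
      m * x * m⁻¹, conj_mem_of_le_normalizer (typeCore_norm M) hm hx, conj_ne_one hx1, conj_comm hc⟩

theorem A1_subset_A (h55 : fittingHallOf M ≤ ⁅M, M⁆) : typeA1 M ⊆ typeA M := by
  intro a ha
  by_cases hI : IsOfTypeI M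
  · rw [mem_A_of_typeI hI]
    have h1 : typeCore M = fittingHallOf M := by
      unfold typeCore
      rw [if_neg (typeI_not_III_IV hI)]
    exact ⟨typeCore_le M ha.1, ha.2, a, h1 ▸ ha.1, ha.2, rfl⟩
  · rw [mem_A_of_not_typeI hI]
    refine ⟨?_, ha.2, a, ha.1, ha.2, rfl⟩
    have h2 : typeCore M ≤ ⁅M, M⁆ := by
      unfold typeCore
      split_ifs
      · exact le_rfl
      · exact h55
    exact h2 ha.1

omit [Finite G] in
theorem A_subset_A0 (M : Subgroup G) : typeA M ⊆ typeA0 M := fun _ h => Or.inl h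

omit [Finite G] in
theorem one_not_mem_A0 (M : Subgroup G) : (1 : G) ∉ typeA0 M := by
  rintro (h | ⟨-, W₁, U, W₂, hP, m, hm, w, hw, hw1, -, h⟩)
  · exact one_not_mem_A M h
  · apply hw1
    have h2 : w = 1 := by
      by_contra hne
      exact conj_ne_one hne h.symm
    rw [h2]
    exact one_mem _

theorem A0_subset (M : Subgroup G) : typeA0 M ⊆ (M : Set G) := by
  rintro a (h | ⟨-, W₁, U, W₂, hP, m, hm, w, hw, -, -, rfl⟩)
  · exact A_subset M h
  · have h1 : W₁ ⊔ W₂ ≤ M := sup_le hP.W₁_compl.2.1 ((hP.W₂_le.trans inf_le_left).trans (fh_le M))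
    exact mul_mem (mul_mem hm (h1 hw)) (inv_mem hm)

theorem A0_conj {m a : G} (hm : m ∈ M) (ha : a ∈ typeA0 M) : m * a * m⁻¹ ∈ typeA0 M := by
  rcases ha with h | ⟨hI, W₁, U, W₂, hP, n, hn, w, hw, hw1, hw2, rfl⟩
  · exact Or.inl (A_conj hm h)
  · exact Or.inr ⟨hI, W₁, U, W₂, hP, m * n, mul_mem hm hn, w, hw, hw1, hw2, by group⟩

/-! ### The set normaliser -/

theorem normalizer_eq (hG : IsMinSimpleOddOrder G) (hM : IsCoatom M) {A : Set G}
    (hne : A.Nonempty) (h1 : (1 : G) ∉ A) (hAM : A ⊆ (M : Set G))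
    (hinv : ∀ m ∈ M, ∀ a ∈ A, m * a * m⁻¹ ∈ A) : normalizer A = M := by
  have hle : M ≤ normalizer A := by
    intro m hm
    rw [mem_set_normalizer_iff]
    intro x
    refine ⟨hinv m hm x, fun hx => ?_⟩
    have := hinv m⁻¹ (M.inv_mem hm) _ hx
    have e : m⁻¹ * (m * x * m⁻¹) * m⁻¹⁻¹ = x := by group
    rwa [e] at this
  by_contra hne'
  have htop : normalizer A = ⊤ := hM.2 _ (lt_of_le_of_ne hle (Ne.symm hne'))
  have hconj : ∀ g : G, ∀ a ∈ A, g * a * g⁻¹ ∈ A := by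
    intro g a ha
    have hg : g ∈ normalizer A := by rw [htop]; trivial
    exact (mem_set_normalizer_iff.1 hg a).1 ha
  have hN : normalClosure A ≤ M := by
    rw [normalClosure, closure_le]
    intro x hx
    rw [Group.mem_conjugatesOfSet_iff] at hx
    obtain ⟨a, ha, hax⟩ := hx
    rw [isConj_iff] at hax
    obtain ⟨c, rfl⟩ := hax
    exact hAM (hconj c a ha)
  haveI := MS_simple hG
  rcases (normalClosure_normal (s := A)).eq_bot_or_eq_top with h | h
  · obtain ⟨a, ha⟩ := hne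
    have h2 : a ∈ normalClosure A := subset_normalClosure ha
    rw [h, mem_bot] at h2
    exact h1 (h2 ▸ ha)
  · rw [h] at hN
    exact hM.1 (top_le_iff.1 hN)

/-! ### The Dade hypothesis -/

theorem dade_of {X A : Set G} (h91 : C1391 M X) (hAX : A ⊆ X) (h1 : (1 : G) ∉ A)
    (hAM : A ⊆ (M : Set G)) (hinv : ∀ m ∈ M, ∀ a ∈ A, m * a * m⁻¹ ∈ A) :
    DadeHypothesis A M (supportR M) := by
  obtain ⟨hfus, huniq, hstr⟩ := h91
  -- a uniform description of `R(a)`
  have key : ∀ a ∈ A, (centralizer ({a} : Set G) ≤ M ∧ supportR M a = ⊥) ∨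
      ∃ L, IsCoatom L ∧ centralizer ({a} : Set G) ≤ L ∧ ¬ centralizer ({a} : Set G) ≤ M ∧
        supportR M a = fittingHallOf L ⊓ centralizer ({a} : Set G) := by
    intro a ha
    by_cases hc : centralizer ({a} : Set G) ≤ M
    · exact Or.inl ⟨hc, supportR_of_le hc⟩
    · obtain ⟨-, hu⟩ := huniq a (hAX ha) hc
      obtain ⟨L, hL, hxL⟩ := hu.exists
      exact Or.inr ⟨L, hL, hxL, hc, supportR_eq hc hu hL hxL⟩
  refine ⟨h1, hAM, hinv, fun a ha g hg => hfus a (hAX ha) g (hAX hg), ?_, ?_, ?_, ?_, ?_⟩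
  · intro a ha
    rcases key a ha with ⟨-, h⟩ | ⟨L, -, -, -, h⟩
    · rw [h]; exact bot_le
    · rw [h]; exact inf_le_right
  · intro a ha c hc u hu
    rcases key a ha with ⟨-, h⟩ | ⟨L, hL, hxL, hnM, h⟩
    · rw [h, mem_bot] at hu ⊢
      rw [hu]; group
    · rw [h] at hu ⊢
      exact conj_mem_of_le_normalizer (hstr a (hAX ha) hnM L hL hxL).2.1 hc hu
  · intro a ha
    rcases key a ha with ⟨-, h⟩ | ⟨L, hL, hxL, hnM, h⟩
    · rw [h]; exact bot_inf_eq _
    · rw [h]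
      exact (hstr a (hAX ha) hnM L hL hxL).2.2.1.2.2.1
  · intro a ha
    rcases key a ha with ⟨hc, h⟩ | ⟨L, hL, hxL, hnM, h⟩
    · rw [h, bot_sup_eq, inf_eq_right.2 hc]
    · rw [h]
      have hc := (hstr a (hAX ha) hnM L hL hxL).2.2.1
      apply le_antisymm (sup_le hc.1 hc.2.1)
      intro z hz
      obtain ⟨r, hr, s, hs, rfl⟩ := hc.2.2.2 z hz
      exact mul_mem (mem_sup_left hr) (mem_sup_right hs)
  · intro a ha b hb
    rcases key a ha with ⟨-, h⟩ | ⟨L, hL, hxL, hnM, h⟩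
    · rw [h, card_bot]; exact Nat.coprime_one_left _
    · rw [h]
      exact ((hstr a (hAX ha) hnM L hL hxL).2.2.2.1 b (hAX hb)).coprime_dvd_left
        (card_dvd_of_le inf_le_left)

/-- Row S1537. -/
theorem row1537 (hG : IsMinSimpleOddOrder G) (h91 : H1391 G) (h55 : H1355 G) (hM : IsCoatom M)
    {A : Set G} (hA : A = typeA1 M ∨ A = typeA M ∨ A = typeA0 M) :
    normalizer A = M ∧ DadeHypothesis A M (supportR M) := by
  obtain ⟨hF1, hFs, hsM', -, -⟩ := h55 M hM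
  have hFM' : fittingHallOf M ≤ ⁅M, M⁆ := hFs.trans hsM'
  have hne1 : (typeA1 M).Nonempty := by
    obtain ⟨y, hy, hy1⟩ := exists_ne_one_of_ne_bot hF1
    refine ⟨y, ?_, hy1⟩
    show y ∈ typeCore M
    unfold typeCore
    split_ifs
    · exact hFM' hy
    · exact hy
  rcases hA with rfl | rfl | rfl
  · exact ⟨normalizer_eq hG hM hne1 (one_not_mem_A1 M) (A1_subset M) (fun m hm a ha => A1_conj hm ha),
      dade_of (h91 M hM _ (Or.inl rfl)) (A1_subset_A hFM') (one_not_mem_A1 M) (A1_subset M)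
        (fun m hm a ha => A1_conj hm ha)⟩
  · exact ⟨normalizer_eq hG hM (hne1.mono (A1_subset_A hFM')) (one_not_mem_A M) (A_subset M)
        (fun m hm a ha => A_conj hm ha),
      dade_of (h91 M hM _ (Or.inl rfl)) subset_rfl (one_not_mem_A M) (A_subset M)
        (fun m hm a ha => A_conj hm ha)⟩
  · exact ⟨normalizer_eq hG hM (hne1.mono ((A1_subset_A hFM').trans (A_subset_A0 M)))
        (one_not_mem_A0 M) (A0_subset M) (fun m hm a ha => A0_conj hm ha),
      dade_of (h91 M hM _ (Or.inr rfl)) subset_rfl (one_not_mem_A0 M) (A0_subset M)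
        (fun m hm a ha => A0_conj hm ha)⟩

end Cfsg.Agent.Lib.Helper22.PF8
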