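/-
Helper library (helper22): Peterfalvi section 8, row S1538: for `M` of Type II the sets `A₀(M)`, `A(M)`,
`A₁(M)` are TI-subsets with normaliser `M`.
-/
import Cfsg.Agent.Lib.Helper22.PF8.A

set_option autoImplicit false
set_option linter.unusedSectionVars false
set_option linter.unusedVariables false
set_option linter.style.haveILetI false

namespace Cfsg.Agent.Lib.Helper22.PF8

open Subgroup Cfsg
open Cfsg.Agent.Lib
open Cfsg.Agent.Lib.Helper24 Cfsg.Agent.Lib.Helper34 Cfsg.Agent.Lib.Helper31.BG11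
open Cfsg.Agent.Lib.Helper34.BGRows Cfsg.Agent.Lib.Helper26.BGTypes
open scoped Pointwise

universe u

variable {G : Type u} [Group G] [Finite G] {M : Subgroup G}

/-- Two complements of `M_F` in `M'` coming from type P data are conjugate in `M`, so the conditions
`N_G(U) ≤ M` for them are equivalent. -/
theorem typeP_normalizer_le (hG : IsMinSimpleOddOrder G) (hM : IsCoatom M)
    {W₁ U W₂ W₁' U' W₂' : Subgroup G} (hP : IsTypePWith M W₁ U W₂) (hP' : IsTypePWith M W₁' U' W₂')
    (hN : normalizer (U' : Set G) ≤ M) : normalizer (U : Set G) ≤ M := by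
  have hM'M : (⁅M, M⁆ : Subgroup G) ≤ M := Subgroup.commutator_le_self M
  have hc := hP.U_compl
  have hc' := hP'.U_compl
  have hFt : fittingHallOf M ≠ ⊤ := ne_top_of_le_ne_top hM.1 (fh_le M)
  obtain ⟨x, hx, hle⟩ := Helper1.sz_dominance_rel (fittingHallOf M) U' U
    ((hc'.2.1.trans hM'M).trans (fh_norm M)) (compl_fh_cop hM'M hc') (Or.inr (MS_solvable hG hFt))
    (by
      intro u hu
      obtain ⟨a, ha, b, hb, rfl⟩ := hc'.2.2.2 u (hc.2.1 hu)
      exact mul_mem (mem_sup_right ha) (mem_sup_left hb))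
    (compl_fh_cop hM'M hc)
  have hcard : Nat.card U = Nat.card U' := by
    rw [← Helper23.complIn_relIndex_left hc, ← Helper23.complIn_relIndex_left hc']
  have heq : U = MulAut.conj x • U' :=
    Subgroup.eq_of_le_of_card_ge hle (by rw [Helper1.card_conj_smul, hcard])
  have hxM : x ∈ M := fh_le M hx
  apply normalizer_le_of_conj_smul (M.inv_mem hxM) (A := U) (B := U') _ hN
  rw [heq, smul_smul, ← map_mul, inv_mul_cancel, map_one, one_smul]

theorem typeII_not_III_IV (hG : IsMinSimpleOddOrder G) (hM : IsCoatom M) (hII : IsOfTypeII M) :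
    ¬ (IsOfTypeIII M ∨ IsOfTypeIV M) := by
  obtain ⟨W₁, U, W₂, hP, -, -, -, -, hN, -⟩ := hII
  rintro (⟨W₁', U', W₂', hP', -, -, -, -, hN'⟩ | ⟨W₁', U', W₂', hP', -, -, -, -, hN'⟩)
  · exact hN (typeP_normalizer_le hG hM hP hP' hN')
  · exact hN (typeP_normalizer_le hG hM hP hP' hN')

theorem fittingOf_le' (M : Subgroup G) : fittingOf M ≤ M := map_subtype_le _

theorem fittingOf_norm' (M : Subgroup G) : M ≤ normalizer (fittingOf M : Set G) := by
  have h : (fittingSubgroup ↥M).Normal := Cfsg.Agent.Lib.Helper91.fittingSubgroup_normal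
  have h2 : (fittingOf M).subgroupOf M = fittingSubgroup ↥M := by
    unfold fittingOf
    exact comap_map_eq_self_of_injective (subtype_injective M) _
  rw [← h2] at h
  exact (normal_subgroupOf_iff_le_normalizer (fittingOf_le' M)).mp h

/-- If `F(M)` is a TI-subset then `C_G(x) ≤ M` for `1 ≠ x ∈ F(M)`. -/
theorem centralizer_le_of_TI (hG : IsMinSimpleOddOrder G) (hM : IsCoatom M)
    (hTI : IsTISubset (fittingOf M : Set G)) {x : G} (hx : x ∈ fittingOf M) (hx1 : x ≠ 1) :
    centralizer ({x} : Set G) ≤ M := by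
  have hF1 : fittingOf M ≠ ⊥ := fun h => hx1 (by rw [h, mem_bot] at hx; exact hx)
  have hFt : fittingOf M ≠ ⊤ := ne_top_of_le_ne_top hM.1 (fittingOf_le' M)
  have hN : normalizer (fittingOf M : Set G) = M := by
    by_contra hne
    exact MS_normalizer_ne_top hG hF1 hFt
      (hM.2 _ (lt_of_le_of_ne (fittingOf_norm' M) (Ne.symm hne)))
  intro c hc
  rw [← hN]
  by_contra hcn
  apply hx1
  apply hTI c hcn x hx
  have h1 : c * x = x * c := mem_centralizer_singleton_iff.1 hc
  have h2 : c * x * c⁻¹ = x := by rw [h1]; group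
  rw [h2]
  exact hx

/-- A Dade set all of whose elements have their centralisers in `M` is a TI-subset. -/
theorem TI_of_fusion {A : Set G} (hN : normalizer A = M)
    (hfus : ∀ a ∈ A, ∀ g : G, g * a * g⁻¹ ∈ A → ∃ x ∈ M, x * a * x⁻¹ = g * a * g⁻¹)
    (hc : ∀ a ∈ A, centralizer ({a} : Set G) ≤ M) : IsTISubset A := by
  intro g hg a ha hga
  exfalso
  apply hg
  rw [hN]
  obtain ⟨m, hm, hma⟩ := hfus a ha g hga
  have h1 : m⁻¹ * g ∈ centralizer ({a} : Set G) := by
    rw [mem_centralizer_singleton_iff]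
    calc m⁻¹ * g * a = m⁻¹ * (g * a * g⁻¹) * g := by group
      _ = m⁻¹ * (m * a * m⁻¹) * g := by rw [hma]
      _ = a * (m⁻¹ * g) := by group
  have h2 := mul_mem hm (hc a ha h1)
  simpa using h2

/-- Row S1538. -/
theorem row1538 (hG : IsMinSimpleOddOrder G) (h91 : H1391 G) (h55 : H1355 G) (hM : IsCoatom M)
    (hII : IsOfTypeII M) :
    (IsTISubset (typeA0 M) ∧ normalizer (typeA0 M) = M) ∧
    (IsTISubset (typeA M) ∧ normalizer (typeA M) = M) ∧
    (IsTISubset (typeA1 M) ∧ normalizer (typeA1 M) = M) := by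
  obtain ⟨hF1, hFs, hsM', -, -⟩ := h55 M hM
  have hFM' : fittingHallOf M ≤ ⁅M, M⁆ := hFs.trans hsM'
  have hcore : typeCore M = fittingHallOf M := by
    unfold typeCore
    rw [if_neg (typeII_not_III_IV hG hM hII)]
  obtain ⟨W₁, U, W₂, hP, -, -, hTI, -⟩ := hII
  have hFF : fittingHallOf M ≤ fittingOf M := by
    rw [← hP.fitting_eq]
    exact le_sup_left
  have hcen : ∀ a ∈ typeA0 M, centralizer ({a} : Set G) ≤ M := by
    intro a ha
    by_contra hc
    obtain ⟨h1, -⟩ := (h91 M hM _ (Or.inr rfl)).2.1 a ha hc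
    exact hc (centralizer_le_of_TI hG hM hTI (hFF (hcore ▸ h1.1)) h1.2)
  obtain ⟨hN0, hD0⟩ := row1537 hG h91 h55 hM (A := typeA0 M) (Or.inr (Or.inr rfl))
  obtain ⟨hN, hD⟩ := row1537 hG h91 h55 hM (A := typeA M) (Or.inr (Or.inl rfl))
  obtain ⟨hN1, hD1⟩ := row1537 hG h91 h55 hM (A := typeA1 M) (Or.inl rfl)
  refine ⟨⟨TI_of_fusion hN0 hD0.fusion hcen, hN0⟩,
    ⟨TI_of_fusion hN hD.fusion (fun a ha => hcen a (A_subset_A0 M ha)), hN⟩,
    ⟨TI_of_fusion hN1 hD1.fusion
      (fun a ha => hcen a (A_subset_A0 M (A1_subset_A hFM' ha))), hN1⟩⟩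

end Cfsg.Agent.Lib.Helper22.PF8
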