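/-
Helper library (helper22): Peterfalvi section 8, rows S1537 and S1538 derived directly from the rows of
Bender--Glauberman sections 14--16 on the standard factorisation (no use of the classification into types).
Every element of `A₀(M)` is (1) a non-identity element of `M_σ`, or (2) an element of
`(U M_σ) ∩ M̂_σ` outside `M_σ`, or (3) an `M`-conjugate of an element of `K K* ∖ (K ∪ K*)`.
-/
import Cfsg.Agent.Lib.Helper22.PF8.B
import Cfsg.Agent.Lib.Helper26.BGTypesC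

set_option autoImplicit false
set_option linter.unusedSectionVars false
set_option linter.unusedVariables false
set_option linter.style.haveILetI false

namespace Cfsg.Agent.Lib.Helper22.PF8

open Subgroup Cfsg
open Cfsg.Agent.Lib
open Cfsg.Agent.Lib.Helper24 Cfsg.Agent.Lib.Helper34 Cfsg.Agent.Lib.Helper31.BG11
open Cfsg.Agent.Lib.Helper34.BG13 Cfsg.Agent.Lib.Helper34.BG16
open Cfsg.Agent.Lib.Helper34.BGRows Cfsg.Agent.Lib.Helper26.BGTypes

universe u

variable {G : Type u} [Group G] [Finite G] {M : Subgroup G}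

/-- The rows of Bender--Glauberman that are used. -/
structure Rows8 (G : Type u) [Group G] [Finite G] : Prop where
  h51 : H1351 G
  h52 : H1352 G
  h55 : H1355 G
  h57 : H1357 G
  h63 : H1363 G
  h64 : H1364 G
  h65 : H1365 G
  h66 : H1366 G
  h74 : H1374 G
  h75 : H1375 G
  h78 : H1378 G
  h20 : H1420d G
  h32 : H1432 G
  h34 : H1434 G
  h36 : H1436 G

/-- The three classes of elements of `A₀(M)`. -/
def Cls1 (M : Subgroup G) (a : G) : Prop := a ∈ sigmaCore M ∧ a ≠ 1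

def Cls2 (M : Subgroup G) (a : G) : Prop :=
  ∃ K U : Subgroup G, IsSigmaDecomposition M K U ∧ a ∈ sigmaA M U \ (sigmaCore M : Set G)

def Cls3 (M : Subgroup G) (a : G) : Prop :=
  a ∈ sigmaHat M ∧ centralizer ({a} : Set G) ≤ M ∧
  ∃ K U : Subgroup G, IsSigmaDecomposition M K U ∧ K ≠ ⊥ ∧ ∃ m ∈ M,
    ∃ z ∈ ((↑(K ⊔ (sigmaCore M ⊓ centralizer (K : Set G))) : Set G) \
      ((K : Set G) ∪ ↑(sigmaCore M ⊓ centralizer (K : Set G)))), a = m * z * m⁻¹

theorem le_sup_of_K_bot {K U : Subgroup G} (hKU : IsSigmaDecomposition M K U) (hK : K = ⊥) :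
    M ≤ U ⊔ sigmaCore M := by
  intro m hm
  obtain ⟨a, ha, b, hb, rfl⟩ := hKU.compl.2.2.2 m hm
  rw [hK, bot_sup_eq] at hb
  exact mul_mem (mem_sup_left ha) (mem_sup_right hb)

theorem conj_centralizer_le {m a : G} (hm : m ∈ M) (h : centralizer ({a} : Set G) ≤ M) :
    centralizer ({m * a * m⁻¹} : Set G) ≤ M := by
  rw [centralizer_singleton_conj]
  have h1 := cj_mono m h
  have e : cj m M = M := map_conj_eq_self_of_mem hm
  rwa [e] at h1

theorem sigmaHat_conj {m a : G} (hm : m ∈ M) (h : a ∈ sigmaHat M) : m * a * m⁻¹ ∈ sigmaHat M := by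
  obtain ⟨haM, y, hy, hy1, hay⟩ := h
  exact ⟨mul_mem (mul_mem hm haM) (inv_mem hm), m * y * m⁻¹,
    conj_mem_of_le_normalizer (sc_norm M) hm hy, conj_ne_one hy1, conj_comm hay⟩

/-- The type P datum `W₁` is a Hall `κ(M)`-subgroup. -/
theorem W₁_hall_kappa (hG : IsMinSimpleOddOrder G) (hM : IsCoatom M) (R : Rows8 G)
    {W₁ U W₂ : Subgroup G} (hP : IsTypePWith M W₁ U W₂) : IsPiHallOf (kappa M) W₁ M := by
  refine ⟨hP.W₁_compl.2.1, fun p hp hd => mem_kappa_of_typeP hG hM R.h55 hP hp hd, ?_⟩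
  intro p hp hk hd
  obtain ⟨K₀, U₀, hKU₀⟩ := exists_decomp hM R.h51 R.h52
  have hK1 := K_ne_bot_of_typeP hG hM R.h55 hKU₀ hP
  obtain ⟨hM', -⟩ := R.h65 M hM K₀ U₀ hKU₀ hK1
  rw [Helper23.complIn_relIndex_right hP.W₁_compl, hM'] at hd
  exact kappa_not_dvd_card hKU₀ hk hd

theorem A0_cases (hG : IsMinSimpleOddOrder G) (hM : IsCoatom M) (R : Rows8 G) {a : G}
    (ha : a ∈ typeA0 M) : Cls1 M a ∨ Cls2 M a ∨ Cls3 M a := by
  rcases ha with h | ⟨hI, W₁, U, W₂, hP, m, hm, w, hw, hw1, hw2, rfl⟩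
  · obtain ⟨K₀, U₀, hKU₀⟩ := exists_decomp hM R.h51 R.h52
    have key : a ∈ U₀ ⊔ sigmaCore M ∧ a ≠ 1 ∧ ∃ x ∈ sigmaCore M, x ≠ 1 ∧ a * x = x * a := by
      by_cases hI : IsOfTypeI M
      · obtain ⟨h1, h2, x, hx, hx1, hc⟩ := (mem_A_of_typeI hI).1 h
        exact ⟨le_sup_of_K_bot hKU₀ (typeI_imp hM hKU₀ R.h55 R.h64 hI).1 h1, h2, x,
          (R.h55 M hM).2.1 hx, hx1, hc⟩
      · obtain ⟨h1, h2, x, hx, hx1, hc⟩ := (mem_A_of_not_typeI hI).1 h
        refine ⟨?_, h2, x,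
          (typeCore_facts hG hM R.h51 R.h52 R.h55 R.h57 R.h63 R.h65).1 hx, hx1, hc⟩
        by_cases hK : K₀ = ⊥
        · exact le_sup_of_K_bot hKU₀ hK (Subgroup.commutator_le_self M h1)
        · rw [← (R.h65 M hM K₀ U₀ hKU₀ hK).1]
          exact h1
    obtain ⟨h1, h2, x, hx, hx1, hc⟩ := key
    by_cases hs : a ∈ sigmaCore M
    · exact Or.inl ⟨hs, h2⟩
    · exact Or.inr (Or.inl ⟨K₀, U₀, hKU₀, ⟨⟨decomp_sup_le hKU₀ h1, x, hx, hx1, hc⟩, h1⟩, hs⟩)
  · refine Or.inr (Or.inr ?_)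
    have hsn := hP.selfNormalizing
    have hWM : W₁ ⊔ W₂ ≤ M :=
      sup_le hP.W₁_compl.2.1 ((hP.W₂_le.trans inf_le_left).trans (fh_le M))
    have hcomm := comm_of_isCyclic hsn.2.2.2.2.1
    have hW₂σ : W₂ ≤ sigmaCore M := (hP.W₂_le.trans inf_le_left).trans (R.h55 M hM).2.1
    -- `w` lies in `M̂_σ`
    have hwhat : w ∈ sigmaHat M := by
      obtain ⟨y, hy, hy1⟩ := exists_ne_one_of_ne_bot hsn.2.1
      exact ⟨hWM hw, y, hW₂σ hy, hy1, hcomm w hw y (mem_sup_right hy)⟩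
    -- `C(w) ≤ M`
    have hwc : centralizer ({w} : Set G) ≤ M := by
      have h1 : normalizer ({w} : Set G) = W₁ ⊔ W₂ := by
        apply hsn.2.2.2.2.2 {w} _ (Set.singleton_nonempty w)
        intro z hz
        rw [Set.mem_singleton_iff] at hz
        subst hz
        exact ⟨hw, fun h => h.elim hw1 hw2⟩
      refine le_trans ?_ (h1.le.trans hWM)
      intro c hc
      rw [mem_set_normalizer_iff]
      intro x
      have h2 : c * w = w * c := mem_centralizer_singleton_iff.1 hc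
      have h3 : c * w * c⁻¹ = w := by rw [h2]; group
      simp only [Set.mem_singleton_iff]
      constructor
      · rintro rfl
        exact h3
      · intro h4
        have h5 : c * x * c⁻¹ = c * w * c⁻¹ := by rw [h4, h3]
        simpa using h5
    have hhall := W₁_hall_kappa hG hM R hP
    obtain ⟨⟨U', hKU⟩, -⟩ := R.h52 M hM W₁ hP.W₁_cyclic hhall
    refine ⟨sigmaHat_conj hm hwhat, conj_centralizer_le hm hwc, W₁, U', hKU, hP.W₁_ne, m, hm, w,
      ⟨?_, ?_⟩, rfl⟩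
    · have h1 : W₂ ≤ sigmaCore M ⊓ centralizer (W₁ : Set G) := by
        refine le_inf hW₂σ ?_
        intro y hy
        rw [mem_centralizer_iff]
        intro x hx
        exact hsn.2.2.2.1 x hx y hy
      exact sup_le_sup_left h1 W₁ hw
    · rintro (h | h)
      · exact hw1 h
      · apply hw2
        obtain ⟨x, hx, hx1⟩ := exists_ne_one_of_ne_bot hP.W₁_ne
        rw [← hP.W₂_centralizer x hx hx1]
        refine ⟨(R.h55 M hM).2.2.1 h.1, ?_⟩
        exact mem_centralizer_singleton_iff.2 (hcomm w hw x (mem_sup_left hx))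

theorem sigmaHat_of_cases {a : G} (h : Cls1 M a ∨ Cls2 M a ∨ Cls3 M a) :
    a ∈ sigmaHat M ∧ a ≠ 1 := by
  rcases h with ⟨h1, h2⟩ | ⟨K, U, hKU, ⟨h1, -⟩, h2⟩ | ⟨h1, -, K, U, hKU, hK, m, hm, z, hz, rfl⟩
  · exact ⟨⟨sc_le M h1, a, h1, h2, rfl⟩, h2⟩
  · exact ⟨h1, fun h => h2 (h ▸ one_mem _)⟩
  · refine ⟨h1, conj_ne_one ?_⟩
    rintro rfl
    exact hz.2 (Or.inl (one_mem _))

/-! ### Centralisers -/

theorem centralizer_pow_le (a : G) (n : ℕ) :
    centralizer ({a} : Set G) ≤ centralizer ({a ^ n} : Set G) := by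
  intro c hc
  rw [mem_centralizer_singleton_iff] at hc ⊢
  have h : Commute c a := hc
  exact (h.pow_right n).eq

theorem centralizer_le_of_cls2 (hG : IsMinSimpleOddOrder G) (hM : IsCoatom M) (R : Rows8 G) {a : G}
    (h : Cls2 M a) : centralizer ({a} : Set G) ≤ M := by
  obtain ⟨K, U, hKU, ha⟩ := h
  obtain ⟨h1, h2, h3, h4⟩ := sigma'_part hG (hU_of hG) hM hKU ha
  exact (centralizer_pow_le a _).trans (R.h20 M hM _ h1 h2 h3 h4).1

theorem cls1_of_not_le (hG : IsMinSimpleOddOrder G) (hM : IsCoatom M) (R : Rows8 G) {a : G}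
    (h : Cls1 M a ∨ Cls2 M a ∨ Cls3 M a) (hc : ¬ centralizer ({a} : Set G) ≤ M) : Cls1 M a := by
  rcases h with h | h | h
  · exact h
  · exact absurd (centralizer_le_of_cls2 hG hM R h) hc
  · exact absurd h.2.1 hc

/-! ### Fusion -/

theorem fusion_cls1 (hG : IsMinSimpleOddOrder G) (hM : IsCoatom M) (R : Rows8 G) {a : G}
    (h : Cls1 M a) {g : G} (hg : g * a * g⁻¹ ∈ M) : ∃ m ∈ M, m * a * m⁻¹ = g * a * g⁻¹ := by
  obtain ⟨-, R₀, -, hcompl, huniq⟩ := R.h74 M hM a h.1 h.2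
  have h1 : a ∈ M.map (MulAut.conj g⁻¹).toMonoidHom := by
    rw [mem_map_conj, inv_inv]
    exact hg
  obtain ⟨r, ⟨hr, hrM⟩, -⟩ := huniq g⁻¹ h1
  have hrc : r * a = a * r := mem_centralizer_singleton_iff.1 (hcompl.2.1 hr)
  have h2 : cj (g * r) M = M := by
    rw [← cj_cj]
    have : cj r M = cj g⁻¹ M := hrM
    rw [this, cj_cj_inv]
  refine ⟨g * r, MS_mem_of_cj_eq hG hM h2, ?_⟩
  calc g * r * a * (g * r)⁻¹ = g * (r * a) * r⁻¹ * g⁻¹ := by group
    _ = g * (a * r) * r⁻¹ * g⁻¹ := by rw [hrc]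
    _ = g * a * g⁻¹ := by group

theorem fusion_cls2 (hG : IsMinSimpleOddOrder G) (hM : IsCoatom M) (R : Rows8 G) {a : G}
    (h : Cls2 M a) {g : G} (hg : g * a * g⁻¹ ∈ sigmaHat M) : g ∈ M := by
  obtain ⟨K, U, hKU, ha⟩ := h
  obtain ⟨h1, h2, h3, h4⟩ := sigma'_part hG (hU_of hG) hM hKU ha
  obtain ⟨hgM, y, hy, hy1, hgy⟩ := hg
  have hc : Commute (g * a * g⁻¹) y := hgy
  have k4 : g * a ^ Nat.card (sigmaCore M) * g⁻¹ ∈ sigmaHat M := by
    rw [← conj_pow]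
    exact ⟨pow_mem hgM _, y, hy, hy1, (hc.pow_left _).eq⟩
  obtain ⟨hC, -⟩ := R.h20 M hM _ h1 h2 h3 h4
  obtain ⟨-, huniq⟩ := R.h20 M hM _ k4.1 (conj_ne_one h2)
    (by intro p hp hd; rw [orderOf_conj'] at hd; exact h3 p hp hd) k4
  have h5 := huniq (cj g M) (isCoatom_cj hM g) (by
    rw [centralizer_singleton_conj]
    exact cj_mono g hC)
  exact MS_mem_of_cj_eq hG hM h5

theorem fusion_cls3 (hG : IsMinSimpleOddOrder G) (hM : IsCoatom M) (R : Rows8 G) {a : G}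
    (h : Cls3 M a) {g : G} (hg : g * a * g⁻¹ ∈ M) : g ∈ M := by
  obtain ⟨-, -, K, U, hKU, hK, m, hm, z, hz, rfl⟩ := h
  obtain ⟨Ms, ⟨hMs, hKst, hKstH⟩, -⟩ := R.h66 M hM K U hKU hK
  obtain ⟨-, -, -, h4, -⟩ := R.h34 M hM K U hKU hK Ms hMs hKst hKstH
  by_contra hgM
  have h1 : (g * m)⁻¹ ∉ M := by
    intro h
    apply hgM
    have h2 : g * m ∈ M := by simpa using M.inv_mem h
    have h3 := mul_mem h2 (M.inv_mem hm)
    simpa using h3
  apply h4 _ h1 z hz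
  rw [mem_map_conj, inv_inv]
  have e : g * m * z * (g * m)⁻¹ = g * (m * z * m⁻¹) * g⁻¹ := by group
  rw [e]
  exact hg

theorem fusion_of_cases (hG : IsMinSimpleOddOrder G) (hM : IsCoatom M) (R : Rows8 G) {a : G}
    (h : Cls1 M a ∨ Cls2 M a ∨ Cls3 M a) {g : G} (hg : g * a * g⁻¹ ∈ sigmaHat M) :
    ∃ m ∈ M, m * a * m⁻¹ = g * a * g⁻¹ := by
  rcases h with h | h | h
  · exact fusion_cls1 hG hM R h hg.1
  · exact ⟨g, fusion_cls2 hG hM R h hg, rfl⟩
  · exact ⟨g, fusion_cls3 hG hM R h hg.1, rfl⟩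

/-! ### Coprimality -/

theorem not_conj_of_not_le (hG : IsMinSimpleOddOrder G) (hM : IsCoatom M) (R : Rows8 G) {a : G}
    (h : Cls1 M a) (hc : ¬ centralizer ({a} : Set G) ≤ M) {g : G}
    (hN : centralizer ({a} : Set G) ≤ cj g M) : False := by
  obtain ⟨-, R₀, -, hcompl, huniq⟩ := R.h74 M hM a h.1 h.2
  have haa : a ∈ centralizer ({a} : Set G) := mem_centralizer_singleton_iff.2 rfl
  obtain ⟨r, ⟨hr, hrM⟩, -⟩ := huniq g (hN haa)
  have hrc : r ∈ centralizer ({a} : Set G) := hcompl.2.1 hr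
  apply hc
  intro c hcc
  have h1 : r * c * r⁻¹ ∈ cj g M := hN (mul_mem (mul_mem hrc hcc) (inv_mem hrc))
  have h2 : cj r M = cj g M := hrM
  rw [← h2, mem_map_conj] at h1
  have e : r⁻¹ * (r * c * r⁻¹) * r = c := by group
  rwa [e] at h1

theorem coprime_aux (hG : IsMinSimpleOddOrder G) (hM : IsCoatom M) (R : Rows8 G) {a b : G}
    (h : Cls1 M a) (hc : ¬ centralizer ({a} : Set G) ≤ M) {N : Subgroup G} (hN : IsCoatom N)
    (haN : centralizer ({a} : Set G) ≤ N) (hb : b ∈ sigmaHat M) (hb1 : b ≠ 1) :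
    (Nat.card (sigmaCore N)).Coprime (Nat.card ↥(M ⊓ centralizer ({b} : Set G))) := by
  apply Nat.coprime_of_dvd
  intro p hp hd1 hd2
  have hσN : p ∈ sigma N := sc_primes N hp hd1
  have hpM : p ∣ Nat.card M := hd2.trans (card_dvd_of_le inf_le_left)
  obtain ⟨hκ, hτ⟩ := (R.h36 M hM a h.1 h.2 hc N hN haN).1 ⟨p, hσN, hpM⟩
  have hσM : p ∉ sigma M := by
    intro hs
    obtain ⟨g, hg⟩ := R.h78.2 M N hM hN ⟨p, hs, hσN⟩
    subst hg
    exact not_conj_of_not_le hG hM R h hc (g := g) haN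
  have hhall := sc_hall hG (hU_of hG) hM
  obtain ⟨x', hx', hx'o⟩ := exists_orderOf_eq hp hd2
  have hx'1 : x' ≠ 1 := by
    rintro rfl
    rw [orderOf_one] at hx'o
    exact hp.one_lt.ne hx'o
  obtain ⟨hbM, y, hy, hy1, hby⟩ := hb
  have hbσ : b ^ (sigmaCore M).relIndex M ∈ sigmaCore M :=
    pow_relIndex_mem (sc_le M) (sc_norm M) hbM
  have hempty : ∀ (x z : G), x ∈ sigmaCore M → x ≠ 1 → z ∈ M → z * x = x * z → z ≠ 1 →
      (∀ q : ℕ, q.Prime → q ∣ orderOf z → q ∉ sigma M) → False := by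
    intro x z hx hx1 hz hzx hz1 hq
    have hz2 : orderOf z ≠ 1 := fun h => hz1 (orderOf_eq_one_iff.1 h)
    obtain ⟨q, hqp, hqd⟩ := Nat.exists_prime_and_dvd hz2
    rcases R.h32 M hM x hx hx1 z ⟨hz, mem_centralizer_singleton_iff.2 hzx⟩ hz1 hq with h | h
    · have := h.1 q hqp hqd
      rw [hκ] at this
      exact this
    · have := h.1 q hqp hqd
      rw [hτ] at this
      exact this
  by_cases hb0 : b ^ (sigmaCore M).relIndex M = 1
  · apply hempty y b hy hy1 hbM hby hb1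
    intro q hq hqd hqs
    exact hhall.2.2 q hq hqs (hqd.trans (orderOf_dvd_of_pow_eq_one hb0))
  · have hxb : Commute x' b := mem_centralizer_singleton_iff.1 hx'.2
    apply hempty _ x' hbσ hb0 hx'.1 (hxb.pow_right _).eq hx'1
    intro q hq hqd
    rw [hx'o] at hqd
    rw [(Nat.prime_dvd_prime_iff_eq hq hp).1 hqd]
    exact hσM

/-! ### The Dade hypothesis -/

theorem dade_of_cases (hG : IsMinSimpleOddOrder G) (hM : IsCoatom M) (R : Rows8 G) {A : Set G}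
    (hcl : ∀ a ∈ A, Cls1 M a ∨ Cls2 M a ∨ Cls3 M a)
    (hinv : ∀ m ∈ M, ∀ a ∈ A, m * a * m⁻¹ ∈ A) :
    DadeHypothesis A M (supportR M) := by
  have key : ∀ a ∈ A, (centralizer ({a} : Set G) ≤ M ∧ supportR M a = ⊥) ∨
      ∃ L, IsCoatom L ∧ centralizer ({a} : Set G) ≤ L ∧ ¬ centralizer ({a} : Set G) ≤ M ∧
        Cls1 M a ∧
        supportR M a = sigmaCore L ⊓ centralizer ({a} : Set G) ∧
        centralizer ({a} : Set G) ≤
          normalizer ((sigmaCore L ⊓ centralizer ({a} : Set G) : Subgroup G) : Set G) ∧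
        IsComplIn (M ⊓ centralizer ({a} : Set G)) (sigmaCore L ⊓ centralizer ({a} : Set G))
          (centralizer ({a} : Set G)) := by
    intro a ha
    by_cases hc : centralizer ({a} : Set G) ≤ M
    · exact Or.inl ⟨hc, supportR_of_le hc⟩
    · have h1 := cls1_of_not_le hG hM R (hcl a ha) hc
      obtain ⟨L, ⟨hL, haL⟩, huniq, hσF, hnorm, hcompl, -⟩ := R.h75 M hM a h1.1 h1.2 hc
      refine Or.inr ⟨L, hL, haL, hc, h1, ?_, hnorm, hcompl⟩
      rw [hσF]
      exact supportR_eq hc ⟨L, ⟨hL, haL⟩, fun L' hL' => huniq L' hL'.1 hL'.2⟩ hL haL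
  refine ⟨fun h => (sigmaHat_of_cases (hcl 1 h)).2 rfl,
    fun a ha => (sigmaHat_of_cases (hcl a ha)).1.1, hinv,
    fun a ha g hg => fusion_of_cases hG hM R (hcl a ha) (sigmaHat_of_cases (hcl _ hg)).1,
    ?_, ?_, ?_, ?_, ?_⟩
  · intro a ha
    rcases key a ha with ⟨-, h⟩ | ⟨L, -, -, -, -, h, -⟩
    · rw [h]; exact bot_le
    · rw [h]; exact inf_le_right
  · intro a ha c hc u hu
    rcases key a ha with ⟨-, h⟩ | ⟨L, hL, hxL, hnM, -, h, hnorm, -⟩
    · rw [h, mem_bot] at hu ⊢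
      rw [hu]; group
    · rw [h] at hu ⊢
      exact conj_mem_of_le_normalizer hnorm hc hu
  · intro a ha
    rcases key a ha with ⟨-, h⟩ | ⟨L, hL, hxL, hnM, -, h, -, hcompl⟩
    · rw [h]; exact bot_inf_eq _
    · rw [h, inf_comm]
      exact hcompl.2.2.1
  · intro a ha
    rcases key a ha with ⟨hc, h⟩ | ⟨L, hL, hxL, hnM, -, h, -, hcompl⟩
    · rw [h, bot_sup_eq, inf_eq_right.2 hc]
    · rw [h]
      apply le_antisymm (sup_le hcompl.2.1 hcompl.1)
      intro z hz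
      obtain ⟨r, hr, s, hs, rfl⟩ := hcompl.2.2.2 z hz
      exact mul_mem (mem_sup_right hr) (mem_sup_left hs)
  · intro a ha b hb
    rcases key a ha with ⟨-, h⟩ | ⟨L, hL, hxL, hnM, h1, h, -, -⟩
    · rw [h, card_bot]; exact Nat.coprime_one_left _
    · rw [h]
      obtain ⟨hb1, hb2⟩ := sigmaHat_of_cases (hcl b hb)
      exact (coprime_aux hG hM R h1 hnM hL hxL hb1 hb2).coprime_dvd_left
        (card_dvd_of_le inf_le_left)

/-- Row S1537. -/
theorem row1537' (hG : IsMinSimpleOddOrder G) (R : Rows8 G) (hM : IsCoatom M)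
    {A : Set G} (hA : A = typeA1 M ∨ A = typeA M ∨ A = typeA0 M) :
    normalizer A = M ∧ DadeHypothesis A M (supportR M) := by
  obtain ⟨hF1, hFs, hsM', -, -⟩ := R.h55 M hM
  have hFM' : fittingHallOf M ≤ ⁅M, M⁆ := hFs.trans hsM'
  have hne1 : (typeA1 M).Nonempty := by
    obtain ⟨y, hy, hy1⟩ := exists_ne_one_of_ne_bot hF1
    refine ⟨y, ?_, hy1⟩
    show y ∈ typeCore M
    unfold typeCore
    split_ifs
    · exact hFM' hy
    · exact hy
  rcases hA with rfl | rfl | rfl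
  · exact ⟨normalizer_eq hG hM hne1 (one_not_mem_A1 M) (A1_subset M) (fun m hm a ha => A1_conj hm ha),
      dade_of_cases hG hM R
        (fun a ha => A0_cases hG hM R (A_subset_A0 M (A1_subset_A hFM' ha)))
        (fun m hm a ha => A1_conj hm ha)⟩
  · exact ⟨normalizer_eq hG hM (hne1.mono (A1_subset_A hFM')) (one_not_mem_A M) (A_subset M)
        (fun m hm a ha => A_conj hm ha),
      dade_of_cases hG hM R (fun a ha => A0_cases hG hM R (A_subset_A0 M ha))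
        (fun m hm a ha => A_conj hm ha)⟩
  · exact ⟨normalizer_eq hG hM (hne1.mono ((A1_subset_A hFM').trans (A_subset_A0 M)))
        (one_not_mem_A0 M) (A0_subset M) (fun m hm a ha => A0_conj hm ha),
      dade_of_cases hG hM R (fun a ha => A0_cases hG hM R ha)
        (fun m hm a ha => A0_conj hm ha)⟩

/-- Row S1538. -/
theorem row1538' (hG : IsMinSimpleOddOrder G) (R : Rows8 G) (hM : IsCoatom M)
    (hII : IsOfTypeII M) :
    (IsTISubset (typeA0 M) ∧ normalizer (typeA0 M) = M) ∧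
    (IsTISubset (typeA M) ∧ normalizer (typeA M) = M) ∧
    (IsTISubset (typeA1 M) ∧ normalizer (typeA1 M) = M) := by
  obtain ⟨hF1, hFs, hsM', -, -⟩ := R.h55 M hM
  have hFM' : fittingHallOf M ≤ ⁅M, M⁆ := hFs.trans hsM'
  obtain ⟨K₀, U₀, hKU₀⟩ := exists_decomp hM R.h51 R.h52
  obtain ⟨hK₀, hU₀⟩ := typeII_imp hG hM hKU₀ R.h55 R.h65 hII
  have hH : fittingHallOf M = sigmaCore M := by
    by_contra hne
    exact hU₀ (R.h57 M hM K₀ U₀ hKU₀ hne).1
  obtain ⟨W₁, U, W₂, hP, -, -, hTI, -⟩ := hII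
  have hFF : fittingHallOf M ≤ fittingOf M := by
    rw [← hP.fitting_eq]
    exact le_sup_left
  have hcen : ∀ a ∈ typeA0 M, centralizer ({a} : Set G) ≤ M := by
    intro a ha
    by_contra hc
    obtain ⟨h1, h2⟩ := cls1_of_not_le hG hM R (A0_cases hG hM R ha) hc
    exact hc (centralizer_le_of_TI hG hM hTI (hFF (hH ▸ h1)) h2)
  obtain ⟨hN0, hD0⟩ := row1537' hG R hM (A := typeA0 M) (Or.inr (Or.inr rfl))
  obtain ⟨hN, hD⟩ := row1537' hG R hM (A := typeA M) (Or.inr (Or.inl rfl))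
  obtain ⟨hN1, hD1⟩ := row1537' hG R hM (A := typeA1 M) (Or.inl rfl)
  refine ⟨⟨TI_of_fusion hN0 hD0.fusion hcen, hN0⟩,
    ⟨TI_of_fusion hN hD.fusion (fun a ha => hcen a (A_subset_A0 M ha)), hN⟩,
    ⟨TI_of_fusion hN1 hD1.fusion
      (fun a ha => hcen a (A_subset_A0 M (A1_subset_A hFM' ha))), hN1⟩⟩

end Cfsg.Agent.Lib.Helper22.PF8
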