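/-
Helper library (helper22): the rows of Bender--Glauberman used in `PF8.C`, collected from the proved statements.
-/
import Cfsg.Agent.Lib.Helper22.PF8.C
import Cfsg.Agent.S1351
import Cfsg.Agent.S1352
import Cfsg.Agent.S1355
import Cfsg.Agent.S1357
import Cfsg.Agent.S1363
import Cfsg.Agent.S1364
import Cfsg.Agent.S1365
import Cfsg.Agent.S1366
import Cfsg.Agent.S1374
import Cfsg.Agent.S1375
import Cfsg.Agent.S1378
import Cfsg.Agent.S1420
import Cfsg.Agent.S1432
import Cfsg.Agent.S1434
import Cfsg.Agent.S1436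

set_option autoImplicit false

namespace Cfsg.Agent.Lib.Helper22.PF8

open Subgroup Cfsg
open Cfsg.Agent.Lib.Helper34.BG16

universe u

theorem rows8 {G : Type u} [Group G] [Finite G] (hG : IsMinSimpleOddOrder G) : Rows8 G where
  h51 := Cfsg.Agent.S1351.result hG
  h52 := Cfsg.Agent.S1352.result hG
  h55 := Cfsg.Agent.S1355.result hG
  h57 := Cfsg.Agent.S1357.result hG
  h63 := Cfsg.Agent.S1363.result hG
  h64 := Cfsg.Agent.S1364.result hG
  h65 := Cfsg.Agent.S1365.result hG
  h66 := Cfsg.Agent.S1366.result hG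
  h74 := Cfsg.Agent.S1374.result hG
  h75 := Cfsg.Agent.S1375.result hG
  h78 := Cfsg.Agent.S1378.result hG
  h20 := by
    intro M hM
    obtain ⟨E, hE⟩ := exists_compl hG (hU_of hG) hM
    exact (Cfsg.Agent.S1420.result hG M hM E hE).2.2.2
  h32 := Cfsg.Agent.S1432.result hG
  h34 := Cfsg.Agent.S1434.result hG
  h36 := Cfsg.Agent.S1436.result hG

end Cfsg.Agent.Lib.Helper22.PF8
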