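/-
Helper library (helper22): Peterfalvi section 8/12, row S1542: a maximal subgroup of Type I which is a Frobenius
group: the characters induced from the kernel are irreducible and coherent for the Dade map.
-/
import Cfsg.Agent.Lib.Helper22.PF8.E
import Cfsg.Agent.Lib.Helper22.PF8.D
import Cfsg.Agent.Lib.Helper26.SibleyCore
import Cfsg.Agent.Lib.Helper6.ZasReg

set_option autoImplicit false
set_option linter.unusedSectionVars false
set_option linter.unusedVariables false
set_option linter.style.haveILetI false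

namespace Cfsg.Agent.Lib.Helper22.PF8

open Subgroup Cfsg
open Cfsg.Agent.Lib Cfsg.Agent.Lib.Helper26 Cfsg.Agent.Lib.Helper15
open Cfsg.Agent.Lib.Helper24 Cfsg.Agent.Lib.Helper26.BGTypes
open scoped commutatorElement

universe u

variable {G : Type u} [Group G] [Fintype G] {L : Subgroup G} [Fintype L]

/-- In a Frobenius group of odd order with kernel `L_F` the index of the kernel divides the exponent of
the quotient. -/
theorem index_dvd_exponent (hodd : Odd (Nat.card L)) (hKbot : fittingHall L ≠ ⊥)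
    (hC : ∀ k ∈ fittingHall L, k ≠ 1 → centralizer ({k} : Set L) ≤ fittingHall L) :
    (fittingHall L).index ∣ Monoid.exponent (↥L ⧸ fittingHall ↥L) := by
  rw [Nat.dvd_iff_prime_pow_dvd_dvd]
  intro q k hq hqk
  haveI : Fact q.Prime := ⟨hq⟩
  rcases Nat.eq_zero_or_pos k with rfl | hk
  · simp
  have hqi : q ∣ (fittingHall L).index := (dvd_pow_self q hk.ne').trans hqk
  have hcop := Helper23.fittingHall_coprime L
  have hqK : ¬ q ∣ Nat.card (fittingHall L) := by
    intro h
    have := Nat.dvd_gcd h hqi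
    rw [hcop] at this
    exact hq.one_lt.ne' (Nat.dvd_one.1 this)
  obtain ⟨Q⟩ : Nonempty (Sylow q L) := inferInstance
  have hdisj : Disjoint (Q : Subgroup L) (fittingHall L) := by
    apply Subgroup.disjoint_of_coprime_natCard
    obtain ⟨n, hn⟩ := (IsPGroup.iff_card).1 Q.2
    rw [hn]
    exact Nat.Coprime.pow_left n ((Nat.Prime.coprime_iff_not_dvd hq).2 hqK)
  have hcyc : IsCyclic (Q : Subgroup L) := by
    apply Helper6.ZasReg.isCyclic_of_fpf (fittingHall L) (Q : Subgroup L) hKbot
    · intro t ht ht1 n hn hc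
      by_contra hn1
      apply ht1
      have h1 : t ∈ centralizer ({n} : Set L) := by
        rw [mem_centralizer_singleton_iff]
        calc t * n = t * n * t⁻¹ * t := by group
          _ = n * t := by rw [hc]
      have h2 := hC n hn hn1 h1
      exact Subgroup.disjoint_def.1 hdisj ht h2
    · exact Odd.of_dvd_nat hodd (Subgroup.card_subgroup_dvd_card _)
    · exact Q.2.isNilpotent
  set C : Subgroup G := (Q : Subgroup L).map L.subtype with hCdef
  have hCL : C ≤ L := map_subtype_le _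
  have hCcyc : IsCyclic C :=
    isCyclic_of_surjective ((Q : Subgroup L).equivMapOfInjective L.subtype L.subtype_injective)
      ((Q : Subgroup L).equivMapOfInjective L.subtype L.subtype_injective).surjective
  have hCd : C ⊓ fittingHallOf L = ⊥ := by
    rw [eq_bot_iff]
    rintro x ⟨⟨y, hy, rfl⟩, ⟨z, hz, hzy⟩⟩
    have : z = y := Subtype.ext hzy
    subst this
    have := Subgroup.disjoint_def.1 hdisj hy hz
    rw [this]
    exact one_mem _
  have h1 := card_dvd_exponent_quot hCL hCcyc hCd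
  refine dvd_trans ?_ h1
  have h2 : Nat.card C = Nat.card (Q : Subgroup L) :=
    (Nat.card_congr ((Q : Subgroup L).equivMapOfInjective L.subtype
      L.subtype_injective).toEquiv).symm
  rw [h2, Sylow.card_eq_multiplicity]
  apply pow_dvd_pow
  exact (hq.pow_dvd_iff_le_factorization Nat.card_pos.ne').1
    (hqk.trans (Subgroup.index_dvd_card _))

/-- Row S1542. -/
theorem row1542 (hG : IsMinSimpleOddOrder G) (hL : IsCoatom L) (hI : IsOfTypeI L)
    (hfrob : ∀ x ∈ fittingHallOf L, x ≠ 1 →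
      L ⊓ centralizer ({x} : Set G) ≤ fittingHallOf L) :
    (∀ χ ∈ inducedIrrAbove (fittingHall L) ⊥, IsIrrCharacter L χ) ∧
      IsCoherent (inducedIrrAbove (fittingHall L) ⊥) {1}ᶜ
        (dadeIsometry (typeA L) L (supportR L)) := by
  classical
  set K : Subgroup L := fittingHall L with hKdef
  set τ : (L → ℂ) → (G → ℂ) := dadeIsometry (typeA L) L (supportR L) with hτ
  haveI hKn : K.Normal := fittingHall_normal L
  obtain ⟨-, hodd, hKbot, hKtop, -⟩ := hI.1
  have hmemK : ∀ k : L, k ∈ K ↔ (k : G) ∈ fittingHallOf L := by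
    intro k
    rw [hKdef, ← fh_subgroupOf, mem_subgroupOf]
  have hC : ∀ k ∈ K, k ≠ 1 → centralizer ({k} : Set L) ≤ K := by
    intro k hk hk1 g hg
    rw [hmemK]
    apply hfrob k ((hmemK k).1 hk) (fun h => hk1 (Subtype.ext h))
    refine ⟨g.2, ?_⟩
    rw [mem_centralizer_singleton_iff] at hg
    exact mem_centralizer_singleton_iff.2 (congrArg Subtype.val hg)
  haveI hnilK : Group.IsNilpotent K := fittingHall_nil L
  have hsolv : Group.IsSolvable K := IsNilpotent.to_isSolvable
  have hKlt : K < ⊤ := lt_top_iff_ne_top.2 hKtop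
  have hK'K : ⁅K, K⁆ < K := FrobKer.comm_lt K hnilK hKbot
  have hirr : ∀ χ ∈ inducedIrrAbove K ⊥, IsIrrCharacter L χ := by
    rintro χ ⟨θ, h1, h2, _, rfl⟩
    exact Cfsg.Agent.S1528.irr_indFun K hC h1 h2
  obtain ⟨x₀, hx₀⟩ : ∃ x : L, x ∉ K := by
    by_contra hcon
    push Not at hcon
    exact hKlt.ne ((Subgroup.eq_top_iff' K).2 hcon)
  have hconj : ∀ χ ∈ inducedIrrAbove K ⊥,
      conjFun χ ∈ inducedIrrAbove K ⊥ ∧ conjFun χ ≠ χ := by
    intro χ hχ
    refine ⟨IndIrr.conj_mem K hχ, fun hreal => ?_⟩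
    have h1 := Helper81.IsIrrCharacter.eq_one_of_real_of_odd hodd (hirr χ hχ) (fun g => by
      have := congrFun hreal g
      exact Complex.conj_eq_iff_im.1 this)
    obtain ⟨θ, _, _, _, rfl⟩ := hχ
    have h2 := indFun_normal_not_mem K θ hx₀
    rw [h1] at h2
    exact one_ne_zero h2
  have hD : DadeHypothesis (typeA L) L (supportR L) :=
    (row1537' hG (rows8 hG) hL (Or.inr (Or.inl rfl))).2
  have hgenS : ∀ χ ∈ inducedIrrAbove K ⊥, IsGeneralizedCharacter L χ :=
    fun χ hχ => gen_of_char (IndIrr.isChar K hχ)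
  have hgen : ∀ α ∈ zspan (inducedIrrAbove K ⊥), IsGeneralizedCharacter L α := zspan_gen hgenS
  have hvan : ∀ α ∈ zspan (inducedIrrAbove K ⊥), ∀ x : L, x ∉ K → α x = 0 := by
    intro α hα x hx
    induction hα using Submodule.span_induction with
    | mem y hy =>
      obtain ⟨θ, _, _, _, rfl⟩ := hy
      exact indFun_normal_not_mem K θ hx
    | zero => rfl
    | add y z _ _ hy hz => rw [Pi.add_apply, hy, hz, add_zero]
    | smul n y _ hy => rw [Pi.smul_apply, hy, smul_zero]
  have hsupp : ∀ α ∈ zspanOn (inducedIrrAbove K ⊥) {1}ᶜ, ∀ x : L, (x : G) ∉ typeA L → α x = 0 := by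
    intro α hα x hx
    obtain ⟨h1, h2⟩ := mem_zspanOn_one.1 hα
    by_cases hxK : x ∈ K
    · by_cases hx1 : x = 1
      · rw [hx1, h2]
      · exfalso
        apply hx
        rw [mem_A_of_typeI hI]
        exact ⟨x.2, fun h => hx1 (Subtype.ext h), x, (hmemK x).1 hxK,
          fun h => hx1 (Subtype.ext h), rfl⟩
    · exact hvan α h1 x hxK
  have hiso : IsLinearIsometryOn (zspanOn (inducedIrrAbove K ⊥) {1}ᶜ) τ :=
    dade_isometryOn hD _ (fun α hα => hgen α hα.1) hsupp
  have hone : ∀ α ∈ zspanOn (inducedIrrAbove K ⊥) {1}ᶜ, τ α 1 = 0 := fun α _ => dade_one hD α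
  obtain ⟨φ₀, hφ₀, _⟩ := IndIrr.exists_linear K hsolv ⊥ (bot_lt_iff_ne_bot.2 hKbot)
  obtain ⟨R, hS⟩ := Cfsg.Agent.S1514.result (inducedIrrAbove K ⊥) ⟨φ₀, hφ₀⟩ hirr hconj τ hiso hone
  have hfq := FrobKer.frob_quot K ⁅K, K⁆ hK'K.le hC
  have h21 := Cfsg.Agent.S1521.result K hsolv τ R hS hodd ⊥ bot_le inferInstance ⁅K, K⁆
    (sup_bot_eq _).symm hK'K hKlt hfq
  refine ⟨hirr, ?_⟩
  rcases hI.2 with hTI | ⟨hab, -, -⟩ | ⟨hexp, -⟩
  · -- `L_F` is a TI-subset: Sibley's theorem, and the Dade map is induction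
    have hH1 : fittingHallOf L ≠ ⊥ := by
      intro h
      apply hKbot
      rw [eq_bot_iff]
      intro k hk
      have := (hmemK k).1 hk
      rw [h, mem_bot] at this
      exact mem_bot.2 (Subtype.ext this)
    have hHL' : fittingHallOf L ≠ L := by
      intro h
      apply hx₀
      rw [hmemK, h]
      exact x₀.2
    have hHt : fittingHallOf L ≠ ⊤ := ne_top_of_le_ne_top hL.1 (fh_le L)
    have hN : normalizer (fittingHallOf L : Set G) = L := by
      by_contra hne
      exact MS_normalizer_ne_top hG hH1 hHt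
        (hL.2 _ (lt_of_le_of_ne (fh_norm L) (Ne.symm hne)))
    have hcore := SibleyCore.core (fittingHallOf L) L hodd (fh_le L) hH1 hHL' (fh_nil L)
      (by rw [fh_subgroupOf]; exact hC) hTI hN
    rw [fh_subgroupOf] at hcore
    obtain ⟨hne, τ₁, hτ₁, hag⟩ := hcore
    refine ⟨hne, τ₁, hτ₁, fun α hα => ?_⟩
    rw [hag α hα]
    symm
    apply dade_eq_ind hD _ α (gen_classFunction (hgen α hα.1)) (hsupp α hα)
    intro a ha
    apply supportR_of_le
    obtain ⟨haL, ha1, x, hx, hx1, hax⟩ := (mem_A_of_typeI hI).1 ha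
    have haH : a ∈ fittingHallOf L :=
      hfrob x hx hx1 ⟨haL, mem_centralizer_singleton_iff.2 hax⟩
    intro c hc
    rw [← hN]
    by_contra hcn
    apply ha1
    apply hTI c hcn a haH
    have h1 : c * a = a * c := mem_centralizer_singleton_iff.1 hc
    have h2 : c * a * c⁻¹ = a := by rw [h1]; group
    rw [h2]
    exact haH
  · -- `L_F` abelian
    apply h21 (Or.inr (Or.inr (Or.inr (Or.inl ?_))))
    rw [Subgroup.commutator_le]
    intro a ha b hb
    rw [mem_bot, commutatorElement_eq_one_iff_mul_comm]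
    apply Subtype.ext
    exact comm_of hab a ((hmemK a).1 ha) b ((hmemK b).1 hb)
  · by_cases hpp : ∃ p m : ℕ, p.Prime ∧ (⊥ : Subgroup L).relIndex K = p ^ m
    swap
    · exact h21 (Or.inr (Or.inr (Or.inl hpp)))
    obtain ⟨p, m, hp, hpm⟩ := hpp
    refine h21 (Or.inr (Or.inr (Or.inr (Or.inr ⟨p, m, hp, hpm, ?_⟩))))
    rw [Subgroup.relIndex_bot_left] at hpm
    have hpd : p ∣ Nat.card (fittingHallOf L) := by
      rw [Helper23.card_fittingHallOf, ← hKdef, hpm]
      apply dvd_pow_self
      rintro rfl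
      rw [pow_zero] at hpm
      exact hKbot ((Subgroup.card_eq_one).1 hpm)
    exact (index_dvd_exponent hodd hKbot hC).trans (hexp p hp hpd)

end Cfsg.Agent.Lib.Helper22.PF8
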